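import Mathlib

/-!
# S2465, `PSp₄(4)`: coded matrices over the field of four elements (helper240)
-/

set_option autoImplicit false

namespace Cfsg.Agent.H240.Sp44

/-- digit `t` (two bits) -/
def dg (k t : ℕ) : ℕ := Nat.land (Nat.shiftRight k (Nat.mul 2 t)) 3

/-- product of codes -/
def m4 (a b : ℕ) : ℕ := dg 2625168384 (Nat.add (Nat.mul 4 a) b)

/-- packing -/
def pk (c : ℕ → ℕ) (n : ℕ) : ℕ := Nat.rec 0 (fun t ih => Nat.add ih (Nat.shiftLeft (c t) (Nat.mul 2 t))) n

/-- entry of a product -/
def en (a b i j : ℕ) : ℕ :=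
  Nat.xor (Nat.xor (m4 (dg a (Nat.mul 4 i)) (dg b j)) (m4 (dg a (Nat.add (Nat.mul 4 i) 1)) (dg b (Nat.add 4 j))))
    (Nat.xor (m4 (dg a (Nat.add (Nat.mul 4 i) 2)) (dg b (Nat.add 8 j)))
      (m4 (dg a (Nat.add (Nat.mul 4 i) 3)) (dg b (Nat.add 12 j))))

/-- product of coded `4 × 4` matrices -/
def mu (a b : ℕ) : ℕ := pk (fun t => en a b (Nat.div t 4) (Nat.mod t 4)) 16

/-- transpose -/
def tr (a : ℕ) : ℕ := pk (fun t => dg a (Nat.add (Nat.mul 4 (Nat.mod t 4)) (Nat.div t 4))) 16

/-- the identity -/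
def ic : ℕ := 1074791425

/-- the form -/
def jc : ℕ := 67190800

/-- `x ^ 17 = 1` -/
def p17 (x : ℕ) : Bool :=
  Nat.beq (mu (mu (mu (mu (mu x x) (mu x x)) (mu (mu x x) (mu x x))) (mu (mu (mu x x) (mu x x)) (mu (mu x x) (mu x x)))) x) ic

/-- `x ^ 5 = 1` -/
def p5 (x : ℕ) : Bool := Nat.beq (mu (mu (mu x x) (mu x x)) x) ic

/-- elements of order 17 and 5 -/
def xs : ℕ → ℕ
  | 0 => 3574182062 | 1 => 3572820791 | 2 => 1745804895 | 3 => 1682146044 | 4 => 4150962442 | 5 => 1776218058
  | 6 => 1134369346 | _ => 343776044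

/-- their inverses -/
def zs : ℕ → ℕ
  | 0 => 908438756 | 1 => 2515586999 | 2 => 4222800984 | 3 => 881046840 | 4 => 2792263054 | 5 => 3957782409
  | 6 => 2209158721 | _ => 3082912103

/-- representatives -/
def lc : ℕ → ℕ
  | 0 => 1074791425 | 1 => 1074856961 | 2 => 1091830785 | _ => 1141965825

/-- `[[1, B], [0, 1]]` -/
def uc (a b c : ℕ) : ℕ :=
  Nat.add ic (Nat.add (Nat.shiftLeft a 4) (Nat.add (Nat.shiftLeft b 6) (Nat.add (Nat.shiftLeft b 12) (Nat.shiftLeft c 14))))

/-- the witnesses -/
def tab : ℕ := 13348269058178001670093326562916949719590265191646657511503872843868015842665241025096730033711702317051105691505341648024385740757004903719599437257866169491648314163020034096658816349323161915788707525210147275384487768288544607810138402477670301975656680253952401702065815641717120848567894694912365441312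

/-- all `k < n` satisfy `P` -/
def alb (n : ℕ) (P : ℕ → Bool) : Bool := Nat.rec true (fun k ih => bif P k then ih else false) n

theorem of_alb {n : ℕ} {P : ℕ → Bool} (h : alb n P = true) : ∀ k < n, P k = true := by
  induction n with
  | zero => intro k hk; exact absurd hk (Nat.not_lt_zero k)
  | succ m ih =>
    have h1 : (bif P m then alb m P else false) = true := h
    intro k hk
    rcases hP : P m with _ | _
    · rw [hP, cond_false] at h1; cases h1
    · rw [hP, cond_true] at h1
      rcases Nat.lt_succ_iff_lt_or_eq.1 hk with h2 | h2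
      · exact ih h1 k h2
      · rw [h2]; exact hP

/-- the test of a witness -/
def tw (v y : ℕ) : Bool := bif Nat.blt v 8 then p17 y else p5 y

/-- the check of one pair -/
def chk1 (r k : ℕ) : Bool :=
  tw (Nat.land (Nat.shiftRight tab (Nat.mul 4 (Nat.add (Nat.mul 64 r) k))) 15)
    (mu (zs (Nat.land (Nat.shiftRight tab (Nat.mul 4 (Nat.add (Nat.mul 64 r) k))) 7))
      (mu (lc r) (uc (Nat.land k 3) (Nat.land (Nat.shiftRight k 2) 3) (Nat.land (Nat.shiftRight k 4) 3))))

theorem chk_all : (alb 4 fun r => alb 64 (chk1 r)) = true := by decide +kernel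

/-- the check of the list -/
def chkx (i : ℕ) : Bool :=
  bif Nat.beq (mu (xs i) (zs i)) ic then
    (bif Nat.beq (mu (mu (xs i) jc) (tr (xs i))) jc then (bif Nat.blt i 6 then p17 (xs i) else p5 (xs i)) else false)
  else false

theorem chkx_all : alb 8 chkx = true := by decide +kernel

end Cfsg.Agent.H240.Sp44
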