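import Mathlib
import Cfsg.Agent.H240.Sp44.Code

/-!
# S2465, `PSp₄(4)`: decoding (helper240)
-/

set_option autoImplicit false

namespace Cfsg.Agent.H240.Sp44

open Matrix

theorem dg_eq (k t : ℕ) : dg k t = k / 4 ^ t % 4 := by
  have h1 : dg k t = (k >>> (2 * t)) &&& 3 := rfl
  rw [h1, Nat.shiftRight_eq_div_pow, pow_mul]
  have h2 : (2 : ℕ) ^ 2 - 1 = 3 := rfl
  rw [← h2, Nat.and_two_pow_sub_one_eq_mod, show (2 : ℕ) ^ 2 = 4 by norm_num]

theorem dg_lt (k t : ℕ) : dg k t < 4 := by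
  rw [dg_eq]
  exact Nat.mod_lt _ (by norm_num)

theorem pk_succ (c : ℕ → ℕ) (n : ℕ) : pk c (n + 1) = pk c n + c n * 4 ^ n := by
  have h1 : pk c (n + 1) = pk c n + (c n <<< (2 * n)) := rfl
  rw [h1, Nat.shiftLeft_eq, pow_mul, show (2 : ℕ) ^ 2 = 4 by norm_num]

theorem pk_lt {c : ℕ → ℕ} (hc : ∀ t, c t < 4) (n : ℕ) : pk c n < 4 ^ n := by
  induction n with
  | zero => exact Nat.one_pos
  | succ n ih =>
    rw [pk_succ, pow_succ]
    have h1 : c n * 4 ^ n ≤ 3 * 4 ^ n := Nat.mul_le_mul_right _ (Nat.le_of_lt_succ (hc n))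
    omega

theorem dg_pk {c : ℕ → ℕ} (hc : ∀ t, c t < 4) (n t : ℕ) (ht : t < n) : dg (pk c n) t = c t := by
  induction n with
  | zero => exact absurd ht (Nat.not_lt_zero t)
  | succ n ih =>
    rw [dg_eq, pk_succ]
    rcases Nat.lt_succ_iff_lt_or_eq.1 ht with h1 | h1
    · have h2 := ih h1
      rw [dg_eq] at h2
      obtain ⟨m, hm⟩ : ∃ m, n = t + 1 + m := ⟨n - (t + 1), by omega⟩
      have h3 : c n * 4 ^ n = 4 ^ t * (4 * (c n * 4 ^ m)) := by
        rw [hm, pow_add, pow_add, pow_one]; ring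
      rw [h3, Nat.add_mul_div_left _ _ (by positivity), Nat.add_mul_mod_self_left]
      exact h2
    · subst h1
      rw [Nat.add_mul_div_right _ _ (by positivity), Nat.div_eq_of_lt (pk_lt hc t), zero_add]
      exact Nat.mod_eq_of_lt (hc t)

theorem m4_lt (a b : ℕ) : m4 a b < 4 := dg_lt _ _

theorem xor_lt {a b : ℕ} (ha : a < 4) (hb : b < 4) : Nat.xor a b < 4 := Nat.xor_lt_two_pow (n := 2) ha hb

theorem en_lt (a b i j : ℕ) : en a b i j < 4 :=
  xor_lt (xor_lt (m4_lt _ _) (m4_lt _ _)) (xor_lt (m4_lt _ _) (m4_lt _ _))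

section

variable {F : Type*} [Field F] (w : F)

/-- the value of a code -/
def de : ℕ → F
  | 0 => 0
  | 1 => 1
  | 2 => w
  | _ => w + 1

/-- index -/
def ix : Fin 2 ⊕ Fin 2 → ℕ
  | Sum.inl i => i
  | Sum.inr i => i + 2

theorem ix_lt (i : Fin 2 ⊕ Fin 2) : ix i < 4 := by
  rcases i with i | i
  · show (i : ℕ) < 4; omega
  · show (i : ℕ) + 2 < 4; omega

/-- the matrix of a code -/
def Dm (k : ℕ) : Matrix (Fin 2 ⊕ Fin 2) (Fin 2 ⊕ Fin 2) F := Matrix.of fun i j => de w (dg k (4 * ix i + ix j))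

theorem Dm_apply (k : ℕ) (i j : Fin 2 ⊕ Fin 2) : Dm w k i j = de w (dg k (4 * ix i + ix j)) := rfl

variable {w} (hw : w * w = w + 1) (h2 : (2 : F) = 0)

include h2 in
theorem de_xor {a b : ℕ} (ha : a < 4) (hb : b < 4) : de w (Nat.xor a b) = de w a + de w b := by
  interval_cases a <;> interval_cases b <;>
    first
      | (show (0 : F) = 0 + 0; ring) | (show (1 : F) = 0 + 1; ring) | (show (w : F) = 0 + w; ring)
      | (show (w + 1 : F) = 0 + (w + 1); ring) | (show (1 : F) = 1 + 0; ring)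
      | (show (0 : F) = 1 + 1; linear_combination -h2) | (show (w + 1 : F) = 1 + w; ring)
      | (show (w : F) = 1 + (w + 1); linear_combination -h2) | (show (w : F) = w + 0; ring)
      | (show (w + 1 : F) = w + 1; ring) | (show (0 : F) = w + w; linear_combination -w * h2)
      | (show (1 : F) = w + (w + 1); linear_combination -w * h2) | (show (w + 1 : F) = (w + 1) + 0; ring)
      | (show (w : F) = (w + 1) + 1; linear_combination -h2)
      | (show (1 : F) = (w + 1) + w; linear_combination -w * h2)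
      | (show (0 : F) = (w + 1) + (w + 1); linear_combination -(w + 1) * h2)

include hw h2 in
theorem de_m4 {a b : ℕ} (ha : a < 4) (hb : b < 4) : de w (m4 a b) = de w a * de w b := by
  interval_cases a <;> interval_cases b <;>
    first
      | (show (0 : F) = 0 * _; ring) | (show (0 : F) = _ * 0; ring)
      | (show (1 : F) = 1 * 1; ring) | (show (w : F) = 1 * w; ring)
      | (show (w + 1 : F) = 1 * (w + 1); ring) | (show (w : F) = w * 1; ring)
      | (show (w + 1 : F) = w * w; linear_combination -hw)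
      | (show (1 : F) = w * (w + 1); linear_combination -hw - w * h2)
      | (show (w + 1 : F) = (w + 1) * 1; ring)
      | (show (1 : F) = (w + 1) * w; linear_combination -hw - w * h2)
      | (show (w : F) = (w + 1) * (w + 1); linear_combination -hw - (w + 1) * h2)

include hw h2 in
theorem Dm_mul (a b : ℕ) : Dm w (mu a b) = Dm w a * Dm w b := by
  ext i j
  have hi := ix_lt i
  have hj := ix_lt j
  have h1 : dg (mu a b) (4 * ix i + ix j) = en a b (ix i) (ix j) := by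
    unfold mu
    rw [dg_pk (fun t => en_lt a b _ _) 16 _ (by omega)]
    congr 1
    · show (4 * ix i + ix j) / 4 = ix i
      omega
    · show (4 * ix i + ix j) % 4 = ix j
      omega
  rw [Dm_apply, h1, Matrix.mul_apply, Fintype.sum_sum_type, Fin.sum_univ_two, Fin.sum_univ_two]
  unfold en
  rw [de_xor h2 (xor_lt (m4_lt _ _) (m4_lt _ _)) (xor_lt (m4_lt _ _) (m4_lt _ _)),
    de_xor h2 (m4_lt _ _) (m4_lt _ _), de_xor h2 (m4_lt _ _) (m4_lt _ _), de_m4 hw h2 (dg_lt _ _) (dg_lt _ _),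
    de_m4 hw h2 (dg_lt _ _) (dg_lt _ _), de_m4 hw h2 (dg_lt _ _) (dg_lt _ _), de_m4 hw h2 (dg_lt _ _) (dg_lt _ _)]
  simp only [Dm_apply]
  have e0 : ix (Sum.inl 0) = 0 := rfl
  have e1 : ix (Sum.inl 1) = 1 := rfl
  have e2 : ix (Sum.inr 0) = 2 := rfl
  have e3 : ix (Sum.inr 1) = 3 := rfl
  rw [e0, e1, e2, e3]
  have f0 : 4 * 0 + ix j = ix j := by omega
  rw [f0]
  rfl

theorem Dm_tr (a : ℕ) : Dm w (tr a) = (Dm w a)ᵀ := by
  ext i j
  have hi := ix_lt i
  have hj := ix_lt j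
  have h1 : dg (tr a) (4 * ix i + ix j) = dg a (4 * ((4 * ix i + ix j) % 4) + (4 * ix i + ix j) / 4) :=
    dg_pk (c := fun t => dg a (Nat.add (Nat.mul 4 (Nat.mod t 4)) (Nat.div t 4))) (fun t => dg_lt _ _) 16 _ (by omega)
  have h3 : 4 * ((4 * ix i + ix j) % 4) + (4 * ix i + ix j) / 4 = 4 * ix j + ix i := by omega
  rw [Matrix.transpose_apply, Dm_apply, Dm_apply, h1, h3]

theorem Dm_ic : Dm w ic = 1 := by
  ext i j
  rcases i with i | i <;> rcases j with j | j <;> fin_cases i <;> fin_cases j <;>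
    first | exact (show (1 : F) = 1 from rfl) | (rw [Matrix.one_apply_ne (by decide)]; rfl) | (rw [Matrix.one_apply_eq]; rfl)

include h2 in
theorem Dm_jc : Dm w jc = Matrix.J (Fin 2) F := by
  have h1 : (-1 : F) = 1 := by linear_combination -h2
  rw [Matrix.J]
  ext i j
  rcases i with i | i <;> rcases j with j | j <;> fin_cases i <;> fin_cases j <;>
    simp [Matrix.one_apply, h1] <;> rfl

include hw h2 in
theorem pow_of_p17 {x : ℕ} (h : p17 x = true) : Dm w x ^ 17 = 1 := by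
  have h1 := Nat.eq_of_beq_eq_true h
  have h3 := congrArg (Dm w) h1
  rw [Dm_ic] at h3
  simp only [Dm_mul hw h2] at h3
  rw [← h3]
  simp only [pow_succ, pow_zero, one_mul, ← mul_assoc]

include hw h2 in
theorem pow_of_p5 {x : ℕ} (h : p5 x = true) : Dm w x ^ 5 = 1 := by
  have h1 := Nat.eq_of_beq_eq_true h
  have h3 := congrArg (Dm w) h1
  rw [Dm_ic] at h3
  simp only [Dm_mul hw h2] at h3
  rw [← h3]
  simp only [pow_succ, pow_zero, one_mul, ← mul_assoc]

include hw h2 in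
theorem pow_of_tw {v y : ℕ} (h : tw v y = true) : Dm w y ^ 17 = 1 ∨ Dm w y ^ 5 = 1 := by
  unfold tw at h
  rcases hv : Nat.blt v 8 with _ | _
  · rw [hv, cond_false] at h
    exact Or.inr (pow_of_p5 hw h2 h)
  · rw [hv, cond_true] at h
    exact Or.inl (pow_of_p17 hw h2 h)

include hw h2 in
theorem list_spec {i : ℕ} (hi : i < 8) : Dm w (xs i) * Dm w (zs i) = 1 ∧ Dm w (xs i) ∈ symplecticGroup (Fin 2) F ∧
    (Dm w (xs i) ^ 17 = 1 ∨ Dm w (xs i) ^ 5 = 1) := by
  have h := of_alb chkx_all i hi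
  unfold chkx at h
  rcases h1 : Nat.beq (mu (xs i) (zs i)) ic with _ | _
  · rw [h1, cond_false] at h; cases h
  rw [h1, cond_true] at h
  rcases h3 : Nat.beq (mu (mu (xs i) jc) (tr (xs i))) jc with _ | _
  · rw [h3, cond_false] at h; cases h
  rw [h3, cond_true] at h
  refine ⟨?_, ?_, ?_⟩
  · have := congrArg (Dm w) (Nat.eq_of_beq_eq_true h1)
    rwa [Dm_mul hw h2, Dm_ic] at this
  · have := congrArg (Dm w) (Nat.eq_of_beq_eq_true h3)
    rw [Dm_mul hw h2, Dm_mul hw h2, Dm_tr, Dm_jc h2] at this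
    exact SymplecticGroup.mem_iff.2 this
  · rcases h4 : Nat.blt i 6 with _ | _
    · rw [h4, cond_false] at h
      exact Or.inr (pow_of_p5 hw h2 h)
    · rw [h4, cond_true] at h
      exact Or.inl (pow_of_p17 hw h2 h)

include hw h2 in
/-- **the pairs** -/
theorem pair_spec {r k : ℕ} (hr : r < 4) (hk : k < 64) : ∃ X Y : Matrix (Fin 2 ⊕ Fin 2) (Fin 2 ⊕ Fin 2) F,
    Dm w (lc r) * Dm w (uc (Nat.land k 3) (Nat.land (Nat.shiftRight k 2) 3) (Nat.land (Nat.shiftRight k 4) 3)) = X * Y ∧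
      X ∈ symplecticGroup (Fin 2) F ∧ (X ^ 17 = 1 ∨ X ^ 5 = 1) ∧ (Y ^ 17 = 1 ∨ Y ^ 5 = 1) := by
  have h := of_alb (of_alb chk_all r hr) k hk
  unfold chk1 at h
  have h7 : Nat.land (Nat.shiftRight tab (Nat.mul 4 (Nat.add (Nat.mul 64 r) k))) 7 < 8 := by
    have e : Nat.land (Nat.shiftRight tab (Nat.mul 4 (Nat.add (Nat.mul 64 r) k))) 7 =
        (Nat.shiftRight tab (Nat.mul 4 (Nat.add (Nat.mul 64 r) k))) % 2 ^ 3 :=
      Nat.and_two_pow_sub_one_eq_mod _ 3
    rw [e]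
    exact Nat.mod_lt _ (by norm_num)
  obtain ⟨h3, h4, h5⟩ := list_spec hw h2 h7
  refine ⟨_, _, ?_, h4, h5, pow_of_tw hw h2 h⟩
  rw [Dm_mul hw h2, Dm_mul hw h2, ← Matrix.mul_assoc, h3, Matrix.one_mul]

end

end Cfsg.Agent.H240.Sp44
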