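import Mathlib
import Cfsg.Agent.H649.PwSp.Two
import Cfsg.Agent.S2445

/-!
# S2465, `PSp₄(4)`: normal forms of the elements of `Sp₄(4)` up to conjugacy (helper240)
-/

set_option autoImplicit false

namespace Cfsg.Agent.H240.Sp44

open Matrix Cfsg.Agent.H144 Cfsg.Agent.H649.PwSp
open Cfsg.Agent.S2445 (form form_alt form_nond form_apply act act_apply act_iso)

section frame

variable {F : Type*} [Field F]

theorem form_cols (H : Matrix (Fin 2 ⊕ Fin 2) (Fin 2 ⊕ Fin 2) F) (a b : Fin 2 ⊕ Fin 2) :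
    (Hᵀ * J (Fin 2) F * H) a b = form F 2 (fun c => H c a) (fun c => H c b) := by
  rw [form_apply, Matrix.mul_assoc]
  rfl

theorem form_single (c : Fin 2 ⊕ Fin 2 → F) (k : Fin 2) : form F 2 c (Pi.single (Sum.inr k) 1) = - c (Sum.inl k) := by
  rw [form_apply, Matrix.mulVec_single_one]
  simp only [dotProduct, Fintype.sum_sum_type, Matrix.J, Matrix.col_apply, Matrix.fromBlocks_apply₁₂,
    Matrix.fromBlocks_apply₂₂, Matrix.zero_apply, mul_zero, Finset.sum_const_zero, add_zero, Matrix.neg_apply,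
    Matrix.one_apply]
  simp

/-- a symplectic basis adapted to `g` -/
theorem exists_frame [Finite F] (h2 : (2 : F) = 0) (g : symplecticGroup (Fin 2) F) :
    ∃ h : symplecticGroup (Fin 2) F, ∀ i k : Fin 2,
      ((h⁻¹ * g * h : symplecticGroup (Fin 2) F) : Matrix (Fin 2 ⊕ Fin 2) (Fin 2 ⊕ Fin 2) F) (Sum.inl k) (Sum.inl i) =
        (1 : Matrix (Fin 2) (Fin 2) F) k i := by
  have hneg : ∀ x : F, -x = x := fun x => by linear_combination -x * h2
  have hB := form_alt (F := F) (m := 2)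
  have hN := form_nond (F := F) (m := 2)
  have hV : Module.finrank F (Fin 2 ⊕ Fin 2 → F) = 4 := by
    rw [Module.finrank_fintype_fun_eq_card, Fintype.card_sum, Fintype.card_fin]
  obtain ⟨P, Q, hP, hQ, hPQ, hPg⟩ := c1_two h2 4 (Fin 2 ⊕ Fin 2 → F) (form F 2) hB hN hV (act g) (act_iso g)
  have hfP : Module.finrank F P = 2 := by
    have := finrank_two hB hN hP hQ hPQ
    omega
  have hfQ : Module.finrank F Q = 2 := by
    have := finrank_two hB hN hQ hP (by rw [sup_comm]; exact hPQ)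
    omega
  let e : Module.Basis (Fin 2) F P := Module.finBasisOfFinrankEq F P hfP
  let φ : Q →ₗ[F] (Fin 2 → F) := LinearMap.pi fun i => (form F 2 (e i : Fin 2 ⊕ Fin 2 → F)).comp Q.subtype
  have hφ : ∀ (q : Q) (i : Fin 2), φ q i = form F 2 (e i : Fin 2 ⊕ Fin 2 → F) q := fun _ _ => rfl
  have hinj : Function.Injective φ := by
    rw [← LinearMap.ker_eq_bot, LinearMap.ker_eq_bot']
    intro q hq
    have h0 : ∀ p : P, form F 2 (p : Fin 2 ⊕ Fin 2 → F) q = 0 := by
      intro p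
      rw [← e.sum_repr p]
      simp only [Submodule.coe_sum, Submodule.coe_smul, map_sum, map_smul, LinearMap.sum_apply, LinearMap.smul_apply]
      apply Finset.sum_eq_zero
      intro i _
      rw [← hφ, hq, Pi.zero_apply, smul_zero]
    have h1 : (q : Fin 2 ⊕ Fin 2 → F) = 0 := by
      apply eq_zero_of_orth hN hPQ
      · intro w hw
        exact hB.zero (h0 ⟨w, hw⟩)
      · intro w hw
        exact hQ q q.2 w hw
    exact Subtype.ext h1
  have hsurj : Function.Surjective φ := by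
    rw [← LinearMap.injective_iff_surjective_of_finrank_eq_finrank (by rw [hfQ, Module.finrank_fintype_fun_eq_card,
      Fintype.card_fin])]
    exact hinj
  choose f hf using fun j : Fin 2 => hsurj (Pi.single j 1)
  have hef : ∀ i j : Fin 2, form F 2 (e i : Fin 2 ⊕ Fin 2 → F) (f j : Fin 2 ⊕ Fin 2 → F) = (1 : Matrix (Fin 2) (Fin 2) F) i j := by
    intro i j
    rw [← hφ, hf, Matrix.one_apply, Pi.single_apply]
  let H : Matrix (Fin 2 ⊕ Fin 2) (Fin 2 ⊕ Fin 2) F := Matrix.of fun a b =>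
    Sum.elim (fun i => (e i : Fin 2 ⊕ Fin 2 → F) a) (fun j => (f j : Fin 2 ⊕ Fin 2 → F) a) b
  have hHl : ∀ i, (fun c => H c (Sum.inl i)) = (e i : Fin 2 ⊕ Fin 2 → F) := fun i => rfl
  have hHr : ∀ i, (fun c => H c (Sum.inr i)) = (f i : Fin 2 ⊕ Fin 2 → F) := fun i => rfl
  have hH : H ∈ symplecticGroup (Fin 2) F := by
    rw [SymplecticGroup.mem_iff']
    ext a b
    rw [form_cols]
    rcases a with i | i <;> rcases b with j | j
    · rw [hHl, hHl, hP _ (e i).2 _ (e j).2]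
      rfl
    · rw [hHl, hHr, hef, Matrix.J, Matrix.fromBlocks_apply₁₂, Matrix.neg_apply, hneg]
    · rw [hHl, hHr, hB.neg, hef, Matrix.J, Matrix.fromBlocks_apply₂₁, hneg, Matrix.one_apply, Matrix.one_apply]
      simp only [eq_comm]
    · rw [hHr, hHr, hQ _ (f i).2 _ (f j).2]
      rfl
  refine ⟨⟨H, hH⟩, fun i k => ?_⟩
  set h : symplecticGroup (Fin 2) F := ⟨H, hH⟩ with hh
  have hs : act h (Pi.single (Sum.inl i) 1) = (e i : Fin 2 ⊕ Fin 2 → F) := by
    rw [act_apply, Matrix.mulVec_single_one]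
    rfl
  have ht : act h (Pi.single (Sum.inr k) 1) = (f k : Fin 2 ⊕ Fin 2 → F) := by
    rw [act_apply, Matrix.mulVec_single_one]
    rfl
  have h3 : act h (act (h⁻¹ * g * h) (Pi.single (Sum.inl i) 1)) = act g (e i : Fin 2 ⊕ Fin 2 → F) := by
    rw [← hs]
    simp only [act_apply]
    rw [Matrix.mulVec_mulVec, Matrix.mulVec_mulVec, ← Submonoid.coe_mul, ← Submonoid.coe_mul]
    congr 2
    group
  have h4 : form F 2 (act (h⁻¹ * g * h) (Pi.single (Sum.inl i) 1)) (Pi.single (Sum.inr k) 1) =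
      (1 : Matrix (Fin 2) (Fin 2) F) i k := by
    rw [← act_iso h, h3, ht]
    have h5 : act g (e i : Fin 2 ⊕ Fin 2 → F) = (e i : Fin 2 ⊕ Fin 2 → F) +
        (act g (e i : Fin 2 ⊕ Fin 2 → F) - (e i : Fin 2 ⊕ Fin 2 → F)) := by abel
    rw [h5, map_add, LinearMap.add_apply, hef, hQ _ (hPg _ (e i).2) _ (f k).2, add_zero]
  rw [form_single, act_apply, Matrix.mulVec_single_one] at h4
  have h6 : -((h⁻¹ * g * h : symplecticGroup (Fin 2) F) : Matrix (Fin 2 ⊕ Fin 2) (Fin 2 ⊕ Fin 2) F) (Sum.inl k) (Sum.inl i) =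
      (1 : Matrix (Fin 2) (Fin 2) F) i k := h4
  rw [hneg] at h6
  rw [h6, Matrix.one_apply, Matrix.one_apply]
  simp only [eq_comm]

/-- the shape of a symplectic matrix with first block `1` -/
theorem shape {G : Matrix (Fin 2 ⊕ Fin 2) (Fin 2 ⊕ Fin 2) F} (hG : G ∈ symplecticGroup (Fin 2) F)
    (h2 : (2 : F) = 0) (h1 : ∀ i k : Fin 2, G (Sum.inl k) (Sum.inl i) = (1 : Matrix (Fin 2) (Fin 2) F) k i) :
    ∃ B N : Matrix (Fin 2) (Fin 2) F, Bᵀ = B ∧ Nᵀ = N ∧ G = fromBlocks 1 B N (1 + N * B) := by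
  obtain ⟨B, N, D, rfl⟩ : ∃ B N D : Matrix (Fin 2) (Fin 2) F, G = fromBlocks 1 B N D := by
    refine ⟨G.toBlocks₁₂, G.toBlocks₂₁, G.toBlocks₂₂, ?_⟩
    have : G.toBlocks₁₁ = 1 := by
      ext k i
      exact h1 i k
    rw [← this, fromBlocks_toBlocks]
  rw [SymplecticGroup.mem_iff', Matrix.J, fromBlocks_transpose, fromBlocks_multiply, fromBlocks_multiply,
    fromBlocks_inj] at hG
  obtain ⟨a1, a2, a3, a4⟩ := hG
  simp only [Matrix.transpose_one, Matrix.mul_zero, Matrix.mul_one, Matrix.one_mul, zero_add, Matrix.mul_neg,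
    add_zero, Matrix.neg_mul] at a1 a2 a3 a4
  have e1 : Nᵀ = N := by
    have : Nᵀ + -N = 0 := a1
    exact add_neg_eq_zero.1 this
  have e2 : D = 1 + N * B := by
    rw [e1] at a2
    have := congrArg (fun M => -M + N * B) a2
    simp only [neg_add_rev, neg_neg] at this
    rw [← this]
    abel
  have e3 : Bᵀ = B := by
    rw [e2, Matrix.transpose_add, Matrix.transpose_one, Matrix.transpose_mul, e1] at a4
    rw [Matrix.add_mul, Matrix.mul_add, Matrix.one_mul, Matrix.mul_one, ← Matrix.mul_assoc] at a4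
    have : B - Bᵀ = 0 := by
      rw [← a4]; abel
    exact (sub_eq_zero.1 this).symm
  exact ⟨B, N, e3, e1, by rw [e2]⟩

end frame

end Cfsg.Agent.H240.Sp44
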