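import Mathlib
import Cfsg.Agent.H240.Sp44.Dec
import Cfsg.Agent.H240.Sp44.Norm

/-!
# S2465, `PSp₄(4)`: every element is a product of two elements of order prime to six (helper240)
-/

set_option autoImplicit false

namespace Cfsg.Agent.H240.Sp44

open Matrix

section congruence

variable {F : Type*} [Field F]

/-- the representatives -/
def Rr (F : Type*) [Field F] : ℕ → Matrix (Fin 2) (Fin 2) F
  | 0 => !![0, 0; 0, 0]
  | 1 => !![1, 0; 0, 0]
  | 2 => !![0, 1; 1, 0]
  | _ => !![1, 0; 0, 1]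

/-- congruent to a representative -/
def Red (N : Matrix (Fin 2) (Fin 2) F) : Prop :=
  ∃ A A' : Matrix (Fin 2) (Fin 2) F, A * A' = 1 ∧ A' * A = 1 ∧ ∃ r < 4, Aᵀ * N * A = Rr F r

theorem Red.congr {N C C' : Matrix (Fin 2) (Fin 2) F} (h : Red (Cᵀ * N * C)) (h1 : C * C' = 1) (h2 : C' * C = 1) :
    Red N := by
  obtain ⟨A, A', a1, a2, r, hr, e⟩ := h
  refine ⟨C * A, A' * C', ?_, ?_, r, hr, ?_⟩
  · rw [Matrix.mul_assoc, ← Matrix.mul_assoc A, a1, Matrix.one_mul, h1]
  · rw [Matrix.mul_assoc, ← Matrix.mul_assoc C', h2, Matrix.one_mul, a2]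
  · rw [← e, Matrix.transpose_mul]
    simp only [Matrix.mul_assoc]

theorem mk_congr {p q r s p' q' r' s' : F} (h1 : p = p') (h2 : q = q') (h3 : r = r') (h4 : s = s') :
    (!![p, q; r, s] : Matrix (Fin 2) (Fin 2) F) = !![p', q'; r', s'] := by
  rw [h1, h2, h3, h4]

theorem tr_two (p q r s : F) : (!![p, q; r, s] : Matrix (Fin 2) (Fin 2) F)ᵀ = !![p, r; q, s] := by
  ext i j
  fin_cases i <;> fin_cases j <;> rfl

theorem red_one {a b c : F} (h2 : (2 : F) = 0) (h4 : ∀ x : F, x ^ 4 = x) (ha : a ≠ 0) : Red !![a, b; b, c] := by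
  have hs : (a ^ 2) ≠ 0 := pow_ne_zero 2 ha
  have h3 : ∀ x : F, x ≠ 0 → x ^ 3 = 1 := fun x hx => by
    apply mul_left_cancel₀ hx
    rw [mul_one, ← pow_succ']
    exact h4 x
  -- first step
  have e1 : (!![(a ^ 2)⁻¹, b / a; 0, 1] : Matrix (Fin 2) (Fin 2) F)ᵀ * !![a, b; b, c] * !![(a ^ 2)⁻¹, b / a; 0, 1] =
      !![1, 0; 0, b ^ 2 / a + c] := by
    rw [tr_two, Matrix.mul_fin_two, Matrix.mul_fin_two]
    refine mk_congr ?_ ?_ ?_ ?_
    · field_simp
      linear_combination -h3 a ha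
    · field_simp
      linear_combination b * h2
    · field_simp
      linear_combination b * h2
    · field_simp
      linear_combination b ^ 2 * h2
  have e2 : (!![(a ^ 2)⁻¹, b / a; 0, 1] : Matrix (Fin 2) (Fin 2) F) * !![a ^ 2, -(b * a); 0, 1] = 1 := by
    ext i j
    fin_cases i <;> fin_cases j <;> simp [Matrix.mul_apply, Fin.sum_univ_two] <;> field_simp <;> ring
  have e3 : (!![a ^ 2, -(b * a); 0, 1] : Matrix (Fin 2) (Fin 2) F) * !![(a ^ 2)⁻¹, b / a; 0, 1] = 1 := by
    ext i j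
    fin_cases i <;> fin_cases j <;> simp [Matrix.mul_apply, Fin.sum_univ_two] <;> field_simp <;> ring
  refine Red.congr ?_ e2 e3
  rw [e1]
  obtain ⟨d, hd⟩ : ∃ d, d = b ^ 2 / a + c := ⟨_, rfl⟩
  rw [← hd]
  by_cases hd0 : d = 0
  · refine ⟨1, 1, by simp, by simp, 1, by norm_num, ?_⟩
    rw [hd0]
    simp [Rr]
  · have ht : d ^ 2 ≠ 0 := pow_ne_zero 2 hd0
    refine ⟨!![1, 0; 0, (d ^ 2)⁻¹], !![1, 0; 0, d ^ 2], ?_, ?_, 3, by norm_num, ?_⟩
    · ext i j
      fin_cases i <;> fin_cases j <;> simp [Matrix.mul_apply, Fin.sum_univ_two, ht]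
    · ext i j
      fin_cases i <;> fin_cases j <;> simp [Matrix.mul_apply, Fin.sum_univ_two, ht]
    · rw [tr_two, Matrix.mul_fin_two, Matrix.mul_fin_two]
      refine mk_congr ?_ ?_ ?_ ?_
      · ring
      · ring
      · ring
      · field_simp
        linear_combination -h3 d hd0

theorem red {a b c : F} (h2 : (2 : F) = 0) (h4 : ∀ x : F, x ^ 4 = x) : Red !![a, b; b, c] := by
  by_cases ha : a = 0
  swap
  · exact red_one h2 h4 ha
  by_cases hc : c = 0
  swap
  · refine Red.congr (C := !![0, 1; 1, 0]) (C' := !![0, 1; 1, 0]) ?_ ?_ ?_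
    · have e : (!![0, 1; 1, 0] : Matrix (Fin 2) (Fin 2) F)ᵀ * !![a, b; b, c] * !![0, 1; 1, 0] = !![c, b; b, a] := by
        ext i j
        fin_cases i <;> fin_cases j <;> simp [Matrix.mul_apply, Fin.sum_univ_two]
      rw [e]
      exact red_one h2 h4 hc
    · ext i j
      fin_cases i <;> fin_cases j <;> simp [Matrix.mul_apply, Fin.sum_univ_two]
    · ext i j
      fin_cases i <;> fin_cases j <;> simp [Matrix.mul_apply, Fin.sum_univ_two]
  subst ha hc
  by_cases hb : b = 0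
  · subst hb
    refine ⟨1, 1, by simp, by simp, 0, by norm_num, ?_⟩
    simp [Rr]
  · refine ⟨!![b⁻¹, 0; 0, 1], !![b, 0; 0, 1], ?_, ?_, 2, by norm_num, ?_⟩
    · ext i j
      fin_cases i <;> fin_cases j <;> simp [Matrix.mul_apply, Fin.sum_univ_two, hb]
    · ext i j
      fin_cases i <;> fin_cases j <;> simp [Matrix.mul_apply, Fin.sum_univ_two, hb]
    · ext i j
      fin_cases i <;> fin_cases j <;> simp [Matrix.mul_apply, Fin.sum_univ_two, Rr, hb]

theorem sym_eq {N : Matrix (Fin 2) (Fin 2) F} (h : Nᵀ = N) : N = !![N 0 0, N 0 1; N 0 1, N 1 1] := by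
  have h1 : N 1 0 = N 0 1 := congrFun (congrFun h 0) 1
  ext i j
  fin_cases i <;> fin_cases j
  · rfl
  · rfl
  · exact h1
  · rfl

/-- the block diagonal matrices -/
theorem diag_mem {A A' : Matrix (Fin 2) (Fin 2) F} (h : A' * A = 1) :
    fromBlocks A 0 0 A'ᵀ ∈ symplecticGroup (Fin 2) F := by
  rw [SymplecticGroup.mem_iff', Matrix.J, fromBlocks_transpose, fromBlocks_multiply, fromBlocks_multiply, fromBlocks_inj]
  have h1 : Aᵀ * A'ᵀ = 1 := by rw [← Matrix.transpose_mul, h, Matrix.transpose_one]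
  simp [h, h1]

/-- **normal form** -/
theorem exists_normal [Finite F] (h2 : (2 : F) = 0) (h4 : ∀ x : F, x ^ 4 = x) (g : symplecticGroup (Fin 2) F) :
    ∃ h : symplecticGroup (Fin 2) F, ∃ B : Matrix (Fin 2) (Fin 2) F, ∃ r < 4, Bᵀ = B ∧
      ((h⁻¹ * g * h : symplecticGroup (Fin 2) F) : Matrix (Fin 2 ⊕ Fin 2) (Fin 2 ⊕ Fin 2) F) =
        fromBlocks 1 B (Rr F r) (1 + Rr F r * B) := by
  obtain ⟨h, hh⟩ := exists_frame h2 g
  obtain ⟨B, N, hB, hN, e⟩ := shape (h⁻¹ * g * h).2 h2 hh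
  obtain ⟨A, A', a1, a2, r, hr, er⟩ : Red N := by
    rw [sym_eq hN]
    exact red h2 h4
  let t : symplecticGroup (Fin 2) F := ⟨fromBlocks A 0 0 A'ᵀ, diag_mem a2⟩
  let t' : symplecticGroup (Fin 2) F := ⟨fromBlocks A' 0 0 Aᵀ, diag_mem a1⟩
  have ht : t⁻¹ = t' := by
    rw [inv_eq_iff_mul_eq_one]
    apply Subtype.ext
    show fromBlocks A 0 0 A'ᵀ * fromBlocks A' 0 0 Aᵀ = 1
    rw [fromBlocks_multiply]
    have h1 : A'ᵀ * Aᵀ = 1 := by rw [← Matrix.transpose_mul, a1, Matrix.transpose_one]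
    simp [a1, h1, fromBlocks_one]
  refine ⟨h * t, A' * B * A'ᵀ, r, hr, ?_, ?_⟩
  · rw [Matrix.transpose_mul, Matrix.transpose_mul, Matrix.transpose_transpose, hB, Matrix.mul_assoc]
  have h5 : (h * t)⁻¹ * g * (h * t) = t' * (h⁻¹ * g * h) * t := by
    rw [← ht]; group
  rw [h5, Submonoid.coe_mul, Submonoid.coe_mul, e]
  show fromBlocks A' 0 0 Aᵀ * fromBlocks 1 B N (1 + N * B) * fromBlocks A 0 0 A'ᵀ = _
  rw [fromBlocks_multiply, fromBlocks_multiply, fromBlocks_inj]
  have h1 : Aᵀ * A'ᵀ = 1 := by rw [← Matrix.transpose_mul, a2, Matrix.transpose_one]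
  refine ⟨?_, ?_, ?_, ?_⟩
  · simp [a2]
  · simp
  · simp only [Matrix.zero_mul, zero_add, Matrix.mul_zero, add_zero]
    exact er
  · simp only [Matrix.zero_mul, zero_add, Matrix.mul_zero]
    rw [← er, Matrix.mul_add, Matrix.add_mul, Matrix.mul_one, h1]
    congr 1
    have h6 : Aᵀ * N * A * (A' * B * A'ᵀ) = Aᵀ * N * (A * A') * B * A'ᵀ := by simp only [Matrix.mul_assoc]
    rw [h6, a1, Matrix.mul_one]
    simp only [Matrix.mul_assoc]

end congruence

section four

variable {F : Type*} [Field F]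

theorem dg_zero (k : ℕ) : Nat.land k 3 = k % 4 := Nat.and_two_pow_sub_one_eq_mod k 2

theorem uc_eq (a b c : ℕ) : uc a b c = 1074791425 + (a * 16 + (b * 64 + (b * 4096 + c * 16384))) := by
  have h : uc a b c = 1074791425 + ((a <<< 4) + ((b <<< 6) + ((b <<< 12) + (c <<< 14)))) := rfl
  rw [h]
  simp only [Nat.shiftLeft_eq]

theorem Dm_uc (w : F) {a b c : ℕ} (ha : a < 4) (hb : b < 4) (hc : c < 4) :
    Dm w (uc a b c) = fromBlocks 1 !![de w a, de w b; de w b, de w c] 0 1 := by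
  have hu : uc a b c = pk (fun t => if t = 2 then a else if t = 3 then b else if t = 6 then b else
      if t = 7 then c else if t % 5 = 0 then 1 else 0) 16 := by
    have h0 : ∀ c : ℕ → ℕ, pk c 0 = 0 := fun _ => rfl
    rw [uc_eq]
    simp only [pk_succ, h0]
    norm_num
    ring
  have hd : ∀ t < 16, dg (uc a b c) t = if t = 2 then a else if t = 3 then b else if t = 6 then b else
      if t = 7 then c else if t % 5 = 0 then 1 else 0 := by
    intro t ht
    rw [hu]
    refine dg_pk (c := fun t => if t = 2 then a else if t = 3 then b else if t = 6 then b else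
      if t = 7 then c else if t % 5 = 0 then 1 else 0) (fun t => ?_) 16 t ht
    split_ifs <;> omega
  ext i j
  rw [Dm_apply, hd _ (by have := ix_lt i; have := ix_lt j; omega)]
  rcases i with i | i <;> rcases j with j | j <;> fin_cases i <;> fin_cases j <;> simp [ix, de]

theorem Dm_lc (w : F) {r : ℕ} (hr : r < 4) : Dm w (lc r) = fromBlocks 1 0 (Rr F r) 1 := by
  ext i j
  interval_cases r <;> rcases i with i | i <;> rcases j with j | j <;> fin_cases i <;> fin_cases j <;>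
    first
      | exact (show (1 : F) = 1 from rfl)
      | exact (show (0 : F) = 0 from rfl)
      | (simp [Rr]; rfl)

end four

section final

variable {F : Type*} [Field F] [Fintype F]

theorem two_eq_zero (hF : Fintype.card F = 4) : (2 : F) = 0 := by
  have h := FiniteField.cast_card_eq_zero F
  rw [hF] at h
  have h1 : (2 : F) * 2 = 0 := by
    have : ((4 : ℕ) : F) = 2 * 2 := by push_cast; norm_num
    rw [← this]; exact h
  exact mul_self_eq_zero.1 h1

theorem exists_w (hF : Fintype.card F = 4) : ∃ w : F, w * w = w + 1 ∧ ∀ x : F, ∃ c < 4, x = de w c := by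
  classical
  have h2 := two_eq_zero hF
  have h4 : ∀ x : F, x ^ 4 = x := fun x => by
    have := FiniteField.pow_card x
    rwa [hF] at this
  obtain ⟨w, hw0, hw1⟩ : ∃ w : F, w ≠ 0 ∧ w ≠ 1 := by
    by_contra hcon
    push Not at hcon
    have h5 : (Finset.univ : Finset F) ⊆ {0, 1} := by
      intro x _
      by_cases hx : x = 0
      · simp [hx]
      · simp [hcon x hx]
    have h6 := Finset.card_le_card h5
    rw [Finset.card_univ, hF] at h6
    have h7 : ({0, 1} : Finset F).card ≤ 2 := Finset.card_le_two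
    omega
  have hw : w * w = w + 1 := by
    have h5 : w * (w - 1) * (w * w + w + 1) = 0 := by
      have := h4 w
      linear_combination this
    have h6 : w * w + w + 1 = 0 := by
      rcases mul_eq_zero.1 h5 with h | h
      · rcases mul_eq_zero.1 h with h | h
        · exact absurd h hw0
        · exact absurd (sub_eq_zero.1 h) hw1
      · exact h
    linear_combination h6 - (w + 1) * h2
  refine ⟨w, hw, fun x => ?_⟩
  have h5 : x * (x - 1) * ((x - w) * (x - (w + 1))) = 0 := by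
    have := h4 x
    linear_combination this + (-x ^ 3 * w - x ^ 3 + x ^ 2 * w + x ^ 2 * (w + 1) - x * w) * h2 + (x ^ 2 - x) * hw
  rcases mul_eq_zero.1 h5 with h | h
  · rcases mul_eq_zero.1 h with h | h
    · exact ⟨0, by norm_num, h⟩
    · exact ⟨1, by norm_num, sub_eq_zero.1 h⟩
  · rcases mul_eq_zero.1 h with h | h
    · exact ⟨2, by norm_num, sub_eq_zero.1 h⟩
    · exact ⟨3, by norm_num, sub_eq_zero.1 h⟩

theorem cop_of {G : Type*} [Group G] {x : G} (h : x ^ 17 = 1 ∨ x ^ 5 = 1) : (orderOf x).Coprime 6 := by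
  rcases h with h | h
  · exact Nat.Coprime.of_dvd_left (orderOf_dvd_of_pow_eq_one h) (by norm_num)
  · exact Nat.Coprime.of_dvd_left (orderOf_dvd_of_pow_eq_one h) (by norm_num)

/-- **`Sp₄(4)`** -/
theorem six_sp (hF : Fintype.card F = 4) : H78.Pw.All 6 (symplecticGroup (Fin 2) F) := by
  have h2 := two_eq_zero hF
  have h4 : ∀ x : F, x ^ 4 = x := fun x => by
    have := FiniteField.pow_card x
    rwa [hF] at this
  obtain ⟨w, hw, hsurj⟩ := exists_w hF
  intro g
  obtain ⟨h, B, r, hr, hB, e⟩ := exists_normal h2 h4 g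
  obtain ⟨a, ha, ea⟩ := hsurj (B 0 0)
  obtain ⟨b, hb, eb⟩ := hsurj (B 0 1)
  obtain ⟨c, hc, ec⟩ := hsurj (B 1 1)
  have hk : a + 4 * b + 16 * c < 64 := by omega
  obtain ⟨X, Y, e1, hX, hX1, hY1⟩ := pair_spec hw h2 hr hk
  have k0 : Nat.land (a + 4 * b + 16 * c) 3 = a := by rw [dg_zero]; omega
  have k1 : Nat.land (Nat.shiftRight (a + 4 * b + 16 * c) 2) 3 = b := by
    have : Nat.land (Nat.shiftRight (a + 4 * b + 16 * c) 2) 3 = dg (a + 4 * b + 16 * c) 1 := rfl
    rw [this, dg_eq]; omega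
  have k2 : Nat.land (Nat.shiftRight (a + 4 * b + 16 * c) 4) 3 = c := by
    have : Nat.land (Nat.shiftRight (a + 4 * b + 16 * c) 4) 3 = dg (a + 4 * b + 16 * c) 2 := rfl
    rw [this, dg_eq]; omega
  rw [k0, k1, k2, Dm_lc w hr, Dm_uc w ha hb hc, ← ea, ← eb, ← ec, ← sym_eq hB, fromBlocks_multiply] at e1
  simp only [Matrix.one_mul, Matrix.mul_one, Matrix.mul_zero, Matrix.zero_mul, add_zero, zero_add] at e1
  rw [add_comm (Rr F r * B) 1, ← e] at e1
  let x : symplecticGroup (Fin 2) F := ⟨X, hX⟩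
  have hy : ((x⁻¹ * (h⁻¹ * g * h) : symplecticGroup (Fin 2) F) : Matrix (Fin 2 ⊕ Fin 2) (Fin 2 ⊕ Fin 2) F) = Y := by
    rw [Submonoid.coe_mul, e1, ← Matrix.mul_assoc]
    have : ((x⁻¹ : symplecticGroup (Fin 2) F) : Matrix (Fin 2 ⊕ Fin 2) (Fin 2 ⊕ Fin 2) F) * X = 1 := by
      have h5 : x⁻¹ * x = 1 := inv_mul_cancel x
      exact congrArg Subtype.val h5
    rw [this, Matrix.one_mul]
  have hpr : H78.Pw.Pr 6 (h⁻¹ * g * h) := by
    refine ⟨x, x⁻¹ * (h⁻¹ * g * h), by group, cop_of ?_, cop_of ?_⟩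
    · rcases hX1 with h5 | h5
      · exact Or.inl (Subtype.ext h5)
      · exact Or.inr (Subtype.ext h5)
    · rcases hY1 with h5 | h5
      · left
        apply Subtype.ext
        rw [SubmonoidClass.coe_pow, hy, h5]
        rfl
      · right
        apply Subtype.ext
        rw [SubmonoidClass.coe_pow, hy, h5]
        rfl
  have := hpr.conj h
  have h6 : h * (h⁻¹ * g * h) * h⁻¹ = g := by group
  rwa [h6] at this

/-- **`PSp₄(4)`: every element is a product of two elements of order prime to `6`** -/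
theorem six_psp_two_four (hF : Fintype.card F = 4) : H78.Pw.All 6 (Cfsg.PSp 2 F) :=
  H78.Pw.All.of_surjective (QuotientGroup.mk' _) (QuotientGroup.mk'_surjective _) (six_sp hF)

end final

end Cfsg.Agent.H240.Sp44
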